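import Cfsg.Agent.H847.Bs.Defs2
import Cfsg.Agent.H743.TvGen
import Cfsg.Agent.Prune
set_option linter.all false
prune_inst 0x7fffffffbbfffddfffff7fffa7fecffdffbfbffff6fffdcbffe6efffffff7f9ecfefffff8ffbbbfe5ff7ea3cd4fcfb53fdffffffe36bfe7ffffd5ff45ffbffdffdf7bd1971ff9cbe1fbc2fffe3f077ce7f3fffffffffffffffffffffffffffbeffbfffffffff
open scoped Cfsg.Agent.FastGrp

/-!
# S5733, BS31: generation of symplectic groups (helper24)

`gen_sp` : an irreducible subgroup `H` of `Sp(V)` containing `Sp(W)`, `W` nondegenerate of dimension at least two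
(at least four if `|F| = 2`), contains `Sp(V)` or has a nondegenerate block of dimension at least `dim W`.

Proof: `C` = centres of transvection groups in `H`; a maximal nondegenerate subspace `D` with `W ≤ D ⊆ C` is `V` or a
block.
-/

set_option autoImplicit false

namespace Cfsg.Agent.H24.Bs

open Cfsg.Agent.H847.Bs Module

variable {F V : Type*} [Field F] [AddCommGroup V] [Module F V] {Φ : Frm F V} {H : Subgroup (V ≃ₗ[F] V)}

/-- all transvections with centre `c` belong to `H` -/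
def Cen (Φ : Frm F V) (H : Subgroup (V ≃ₗ[F] V)) (c : V) : Prop :=
  ∀ a : F, ∃ t ∈ H, ∀ x, t x = x + (a * Φ.B c x) • c

theorem B_zero_left (Φ : Frm F V) (x : V) : Φ.B 0 x = 0 := by
  have h := Φ.smul_left 0 0 x
  rwa [zero_smul, zero_mul] at h

theorem B_neg_left (Φ : Frm F V) (x y : V) : Φ.B (-x) y = - Φ.B x y := by
  have h := Φ.smul_left (-1) x y
  rwa [neg_one_smul, neg_one_mul] at h

theorem B_sub_left (Φ : Frm F V) (x y z : V) : Φ.B (x - y) z = Φ.B x z - Φ.B y z := by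
  rw [sub_eq_add_neg, Φ.add_left, B_neg_left, ← sub_eq_add_neg]

theorem B_smul_right (hΦ : IsSp Φ) (a : F) (x y : V) : Φ.B x (a • y) = a * Φ.B x y := by
  rw [Φ.smul_right, hΦ.s]

theorem B_neg_right (hΦ : IsSp Φ) (x y : V) : Φ.B x (-y) = - Φ.B x y := by
  have h := B_smul_right hΦ (-1) x y
  rwa [neg_one_smul, neg_one_mul] at h

theorem B_zero_right (hΦ : IsSp Φ) (x : V) : Φ.B x 0 = 0 := by
  have h := B_smul_right hΦ 0 x 0
  rwa [zero_smul, zero_mul] at h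

theorem B_swap (hΦ : IsSp Φ) (x y : V) : Φ.B x y = - Φ.B y x := by
  have h := hΦ.alt (x + y)
  rw [Φ.add_left, Φ.add_right, Φ.add_right, hΦ.alt x, hΦ.alt y] at h
  linear_combination h

/-- the bilinear form -/
noncomputable def bil (hΦ : IsSp Φ) : LinearMap.BilinForm F V :=
  LinearMap.mk₂ F Φ.B Φ.add_left (fun a x y => Φ.smul_left a x y) Φ.add_right
    (fun a x y => B_smul_right hΦ a x y)

theorem bil_apply (hΦ : IsSp Φ) (x y : V) : bil hΦ x y = Φ.B x y := rfl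

theorem bil_alt (hΦ : IsSp Φ) : (bil hΦ).IsAlt := hΦ.alt

section Cen

theorem cen_zero : Cen Φ H 0 := fun _ => ⟨1, H.one_mem, fun x => by simp⟩

theorem Cen.smul (hΦ : IsSp Φ) {c : V} (h : Cen Φ H c) (l : F) : Cen Φ H (l • c) := by
  intro a
  obtain ⟨t, ht, h1⟩ := h (a * l ^ 2)
  refine ⟨t, ht, fun x => ?_⟩
  rw [h1, Φ.smul_left, smul_smul]
  congr 2
  ring

theorem Cen.neg (hΦ : IsSp Φ) {c : V} (h : Cen Φ H c) : Cen Φ H (-c) := by
  have := h.smul hΦ (-1)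
  rwa [neg_one_smul] at this

theorem Cen.map (hH : H ≤ Φ.Iso) {c : V} (h : Cen Φ H c) {g : V ≃ₗ[F] V} (hg : g ∈ H) : Cen Φ H (g c) := by
  intro a
  obtain ⟨t, ht, h1⟩ := h a
  refine ⟨g * t * g⁻¹, H.mul_mem (H.mul_mem hg ht) (H.inv_mem hg), fun x => ?_⟩
  have h2 : ∀ y, g (g⁻¹ y) = y := fun y => g.apply_symm_apply y
  have h3 : Φ.B (g c) x = Φ.B c (g⁻¹ x) := by
    have := (hH hg).1 c (g⁻¹ x)
    rwa [h2] at this
  show g (t (g⁻¹ x)) = _
  rw [h1, map_add, map_smul, h2, h3]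

theorem Cen.add (hH : H ≤ Φ.Iso) {c d : V} (hc : Cen Φ H c) (hd : Cen Φ H d) (h : Φ.B d c ≠ 0) : Cen Φ H (c + d) := by
  obtain ⟨t, ht, h1⟩ := hd (Φ.B d c)⁻¹
  have h2 := hc.map hH ht
  rw [h1, inv_mul_cancel₀ h, one_smul] at h2
  exact h2

end Cen

/-- `D` is a nondegenerate space of centres -/
structure Ctr (Φ : Frm F V) (H : Subgroup (V ≃ₗ[F] V)) (D : Submodule F V) : Prop where
  nd : Φ.NdOn D
  cen : ∀ d ∈ D, Cen Φ H d

section Main

variable {D : Submodule F V}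

/-- Step 1: from `d₀ + e` to all `d + e`. -/
theorem Ctr.step (hΦ : IsSp Φ) (hH : H ≤ Φ.Iso) (hD : Ctr Φ H D) {e : V} (he : ∀ d ∈ D, Φ.B d e = 0) {d₁ d₂ : V}
    (h1 : d₁ ∈ D) (h2 : d₂ ∈ D) (hc : Cen Φ H (d₁ + e)) (hB : Φ.B d₂ d₁ ≠ 0) : Cen Φ H (d₂ + e) := by
  have h3 : Cen Φ H (d₂ - d₁) := hD.cen _ (D.sub_mem h2 h1)
  have h4 : Φ.B (d₂ - d₁) (d₁ + e) ≠ 0 := by
    rw [Φ.add_right, he _ (D.sub_mem h2 h1), add_zero, B_sub_left, hΦ.alt, sub_zero]
    exact hB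
  have h5 := hc.add hH h3 h4
  have h6 : d₁ + e + (d₂ - d₁) = d₂ + e := by abel
  rwa [h6] at h5

theorem Ctr.spread (hΦ : IsSp Φ) (hH : H ≤ Φ.Iso) (hD : Ctr Φ H D) {e : V} (he : ∀ d ∈ D, Φ.B d e = 0) {d₀ : V}
    (h0 : d₀ ∈ D) (h0' : d₀ ≠ 0) (hc : Cen Φ H (d₀ + e)) {d : V} (hd : d ∈ D) (hd' : d ≠ 0) :
    Cen Φ H (d + e) := by
  have key : ∀ x ∈ D, x ≠ 0 → ∃ y ∈ D, Φ.B y x ≠ 0 := by
    intro x hx hx0
    by_contra hcon
    push Not at hcon
    apply hx0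
    refine hD.nd x hx fun y hy => ?_
    rw [B_swap hΦ, hcon y hy, neg_zero]
  obtain ⟨y₁, hy1, h1⟩ := key d₀ h0 h0'
  obtain ⟨y₂, hy2, h2⟩ := key d hd hd'
  obtain ⟨y, hy, h3, h4⟩ : ∃ y ∈ D, Φ.B y d₀ ≠ 0 ∧ Φ.B y d ≠ 0 := by
    by_cases h5 : Φ.B y₁ d = 0
    · by_cases h6 : Φ.B y₂ d₀ = 0
      · refine ⟨y₁ + y₂, D.add_mem hy1 hy2, ?_, ?_⟩
        · rw [Φ.add_left, h6, add_zero]; exact h1
        · rw [Φ.add_left, h5, zero_add]; exact h2
      · exact ⟨y₂, hy2, h6, h2⟩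
    · exact ⟨y₁, hy1, h1, h5⟩
  have h5 := hD.step hΦ hH he h0 hy hc h3
  refine hD.step hΦ hH he hy hd h5 ?_
  rw [B_swap hΦ]
  exact neg_ne_zero.2 h4

/-- the set `E` of all `e ⟂ D` with `d + e` a centre for all `d ≠ 0` in `D` -/
def EE (Φ : Frm F V) (H : Subgroup (V ≃ₗ[F] V)) (D : Submodule F V) (e : V) : Prop :=
  (∀ d ∈ D, Φ.B d e = 0) ∧ ∀ d ∈ D, d ≠ 0 → Cen Φ H (d + e)

theorem EE.smul (hΦ : IsSp Φ) (hD : Ctr Φ H D) {e : V} (he : EE Φ H D e) (l : F) : EE Φ H D (l • e) := by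
  refine ⟨fun d hd => by rw [B_smul_right hΦ, he.1 d hd, mul_zero], fun d hd hd0 => ?_⟩
  by_cases hl : l = 0
  · rw [hl, zero_smul, add_zero]
    exact hD.cen d hd
  · have h1 := (he.2 (l⁻¹ • d) (D.smul_mem _ hd) (smul_ne_zero (inv_ne_zero hl) hd0)).smul hΦ l
    rwa [smul_add, smul_smul, mul_inv_cancel₀ hl, one_smul] at h1

theorem EE.neg (hΦ : IsSp Φ) (hD : Ctr Φ H D) {e : V} (he : EE Φ H D e) : EE Φ H D (-e) := by
  have := he.smul hΦ hD (-1)
  rwa [neg_one_smul] at this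

variable [FiniteDimensional F V]

theorem EE.add (hΦ : IsSp Φ) (hH : H ≤ Φ.Iso) (hD : Ctr Φ H D) (hq : 3 ≤ Nat.card F ∨ 4 ≤ finrank F D) {e f : V}
    (he : EE Φ H D e) (hf : EE Φ H D f) : EE Φ H D (e + f) := by
  refine ⟨fun d hd => by rw [Φ.add_right, he.1 d hd, hf.1 d hd, add_zero], fun d hd hd0 => ?_⟩
  -- it is enough to find `d₁`
  suffices h : ∃ d₁ ∈ D, d₁ ≠ 0 ∧ d₁ ≠ d ∧ Φ.B (d - d₁) d₁ + Φ.B f e ≠ 0 by
    obtain ⟨d₁, h1, h2, h3, h4⟩ := h
    have h5 : d - d₁ ∈ D := D.sub_mem hd h1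
    have h6 := (he.2 d₁ h1 h2).add hH (hf.2 (d - d₁) h5 (sub_ne_zero.2 h3.symm)) (by
      rw [Φ.add_left, Φ.add_right, Φ.add_right, he.1 _ h5, add_zero, B_swap hΦ f d₁, hf.1 _ h1, neg_zero, zero_add]
      exact h4)
    have h7 : d₁ + e + (d - d₁ + f) = d + (e + f) := by abel
    rwa [h7] at h6
  by_cases hβ : Φ.B f e = 0
  · have h1 : ∃ y ∈ D, Φ.B d y ≠ 0 := by
      by_contra hcon
      push Not at hcon
      exact hd0 (hD.nd d hd hcon)
    obtain ⟨y, hy, h2⟩ := h1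
    refine ⟨y, hy, ?_, ?_, ?_⟩
    · rintro rfl
      exact h2 (B_zero_right hΦ d)
    · rintro rfl
      exact h2 (hΦ.alt y)
    · rw [hβ, add_zero, B_sub_left, hΦ.alt, sub_zero]
      exact h2
  · -- `d₁ ⟂ d`, `d₁ ≠ 0, d`
    suffices h : ∃ d₁ ∈ D, d₁ ≠ 0 ∧ d₁ ≠ d ∧ Φ.B d d₁ = 0 by
      obtain ⟨d₁, h1, h2, h3, h4⟩ := h
      refine ⟨d₁, h1, h2, h3, ?_⟩
      rw [B_sub_left, h4, hΦ.alt, sub_zero, zero_add]
      exact hβ
    rcases hq with hq | hq
    · obtain ⟨l, hl0, hl1⟩ : ∃ l : F, l ≠ 0 ∧ l ≠ 1 := by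
        by_contra hcon
        push Not at hcon
        have h1 : (Set.univ : Set F) ⊆ {0, 1} := by
          intro l _
          by_cases h : l = 0
          · exact Or.inl h
          · exact Or.inr (hcon l h)
        have h2 := Set.ncard_le_ncard h1 (by simp)
        rw [Set.ncard_univ] at h2
        have h3 : ({0, 1} : Set F).ncard ≤ 2 := Set.ncard_insert_le _ _ |>.trans (by simp)
        omega
      refine ⟨l • d, D.smul_mem l hd, smul_ne_zero hl0 hd0, ?_, ?_⟩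
      · intro h
        apply hl1
        have h1 : (l - 1) • d = 0 := by rw [sub_smul, one_smul, h, sub_self]
        rcases smul_eq_zero.1 h1 with h2 | h2
        · exact sub_eq_zero.1 h2
        · exact absurd h2 hd0
      · rw [B_smul_right hΦ, hΦ.alt, mul_zero]
    · -- the kernel of `B d` on `D` has dimension at least three
      let φ : D →ₗ[F] F := (bil hΦ d).comp D.subtype
      have h1 := φ.finrank_range_add_finrank_ker
      have h2 : finrank F (LinearMap.range φ) ≤ 1 := (Submodule.finrank_le _).trans (by rw [finrank_self])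
      have h3 : 3 ≤ finrank F (LinearMap.ker φ) := by omega
      have h4 : ¬ LinearMap.ker φ ≤ Submodule.span F {(⟨d, hd⟩ : D)} := by
        intro h
        have h5 := Submodule.finrank_mono h
        have h6 := finrank_span_le_card (R := F) ({(⟨d, hd⟩ : D)} : Set D)
        simp at h6
        omega
      obtain ⟨y, hy, hy'⟩ := Set.not_subset.1 h4
      refine ⟨y, y.2, ?_, ?_, ?_⟩
      · intro h
        apply hy'
        have : y = 0 := Subtype.ext h
        rw [this]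
        exact Submodule.zero_mem _
      · intro h
        apply hy'
        have : y = ⟨d, hd⟩ := Subtype.ext h
        rw [this]
        exact Submodule.mem_span_singleton_self _
      · exact hy

/-- Two non-orthogonal elements of `E` are centres. -/
theorem EE.cen (hΦ : IsSp Φ) (hH : H ≤ Φ.Iso) (hD : Ctr Φ H D) (hq : 3 ≤ Nat.card F ∨ 4 ≤ finrank F D)
    (hD0 : D ≠ ⊥) {e f : V} (he : EE Φ H D e) (hf : EE Φ H D f) (h : Φ.B e f ≠ 0) : Cen Φ H e := by
  obtain ⟨d, hd, hd0⟩ := D.ne_bot_iff.1 hD0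
  have key : ∀ x y : V, EE Φ H D x → EE Φ H D y → Φ.B y x ≠ 0 → Cen Φ H (x + y) := by
    intro x y hx hy hB
    have h1 := (hx.2 d hd hd0).add hH (hy.2 (-d) (D.neg_mem hd) (neg_ne_zero.2 hd0)) (by
      rw [Φ.add_left, Φ.add_right, Φ.add_right, hx.1 _ (D.neg_mem hd), B_neg_left, hΦ.alt, B_swap hΦ y d,
        hy.1 d hd]
      simp only [neg_zero, zero_add, add_zero]
      exact hB)
    have h2 : d + x + (-d + y) = x + y := by abel
    rwa [h2] at h1
  have h1 := key (e + (-f)) f (he.add hΦ hH hD hq (hf.neg hΦ hD)) hf (by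
    rw [Φ.add_right, B_neg_right hΦ, hΦ.alt, neg_zero, add_zero, B_swap hΦ]
    exact neg_ne_zero.2 h)
  have h2 : e + -f + f = e := by abel
  rwa [h2] at h1

/-- `D` can be enlarged if `E` is not totally isotropic. -/
theorem Ctr.enlarge (hΦ : IsSp Φ) (hH : H ≤ Φ.Iso) (hD : Ctr Φ H D) (hq : 3 ≤ Nat.card F ∨ 4 ≤ finrank F D)
    (hD0 : D ≠ ⊥) {e f : V} (he : EE Φ H D e) (hf : EE Φ H D f) (h : Φ.B e f ≠ 0) :
    ∃ D' : Submodule F V, D < D' ∧ Ctr Φ H D' := by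
  have hfe : Φ.B f e ≠ 0 := by
    rw [B_swap hΦ]
    exact neg_ne_zero.2 h
  have hmem : ∀ x, x ∈ D ⊔ Submodule.span F {e, f} ↔ ∃ d ∈ D, ∃ a b : F, x = d + (a • e + b • f) := by
    intro x
    rw [Submodule.mem_sup]
    constructor
    · rintro ⟨d, hd, y, hy, rfl⟩
      obtain ⟨a, b, rfl⟩ := Submodule.mem_span_pair.1 hy
      exact ⟨d, hd, a, b, rfl⟩
    · rintro ⟨d, hd, a, b, rfl⟩
      exact ⟨d, hd, _, Submodule.mem_span_pair.2 ⟨a, b, rfl⟩, rfl⟩
  have hE : ∀ a b : F, EE Φ H D (a • e + b • f) := fun a b =>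
    (he.smul hΦ hD a).add hΦ hH hD hq (hf.smul hΦ hD b)
  have hae : ∀ a b : F, Φ.B (a • e + b • f) e = b * Φ.B f e := fun a b => by
    rw [Φ.add_left, Φ.smul_left, Φ.smul_left, hΦ.alt, mul_zero, zero_add]
  have haf : ∀ a b : F, Φ.B (a • e + b • f) f = a * Φ.B e f := fun a b => by
    rw [Φ.add_left, Φ.smul_left, Φ.smul_left, hΦ.alt, mul_zero, add_zero]
  refine ⟨D ⊔ Submodule.span F {e, f}, ?_, ?_, ?_⟩
  · refine lt_of_le_of_ne le_sup_left fun heq => ?_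
    have h1 : e ∈ D := by
      rw [heq, hmem]
      exact ⟨0, D.zero_mem, 1, 0, by simp⟩
    have h2 : e = 0 := hD.nd e h1 fun y hy => by rw [B_swap hΦ, he.1 y hy, neg_zero]
    apply h
    rw [h2, B_zero_left]
  · intro x hx hx'
    obtain ⟨d, hd, a, b, rfl⟩ := (hmem x).1 hx
    have h1 : d = 0 := by
      refine hD.nd d hd fun y hy => ?_
      have h2 := hx' y ((hmem y).2 ⟨y, hy, 0, 0, by simp⟩)
      rwa [Φ.add_left, B_swap hΦ (a • e + b • f) y, (hE a b).1 y hy, neg_zero, add_zero] at h2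
    subst h1
    have h2 := hx' e ((hmem e).2 ⟨0, D.zero_mem, 1, 0, by simp⟩)
    have h3 := hx' f ((hmem f).2 ⟨0, D.zero_mem, 0, 1, by simp⟩)
    rw [zero_add, hae] at h2
    rw [zero_add, haf] at h3
    have h4 : b = 0 := (mul_eq_zero.1 h2).resolve_right hfe
    have h5 : a = 0 := (mul_eq_zero.1 h3).resolve_right h
    rw [h4, h5, zero_smul, zero_smul, add_zero, add_zero]
  · intro x hx
    obtain ⟨d, hd, a, b, rfl⟩ := (hmem x).1 hx
    by_cases hd0 : d = 0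
    · rw [hd0, zero_add]
      by_cases hb : b = 0
      · by_cases ha : a = 0
        · rw [ha, hb, zero_smul, zero_smul, add_zero]
          exact cen_zero
        · refine (hE a b).cen hΦ hH hD hq hD0 hf ?_
          rw [haf]
          exact mul_ne_zero ha h
      · refine (hE a b).cen hΦ hH hD hq hD0 he ?_
        rw [hae]
        exact mul_ne_zero hb hfe
    · exact (hE a b).2 d hd hd0

omit [FiniteDimensional F V] in
theorem restrict_nd (hΦ : IsSp Φ) (hD : Φ.NdOn D) : ((bil hΦ).restrict D).Nondegenerate := by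
  refine ⟨fun x h => Subtype.ext (hD x x.2 fun y hy => h ⟨y, hy⟩), fun x h => Subtype.ext (hD x x.2 fun y hy => ?_)⟩
  have h1 : Φ.B y x = 0 := h ⟨y, hy⟩
  rw [B_swap hΦ, h1, neg_zero]

/-- The orthogonal decomposition. -/
theorem exists_dec (hΦ : IsSp Φ) (hD : Φ.NdOn D) (x : V) : ∃ d ∈ D, ∃ f : V, (∀ y ∈ D, Φ.B y f = 0) ∧ x = d + f := by
  have h1 := LinearMap.BilinForm.isCompl_orthogonal_of_restrict_nondegenerate (bil_alt hΦ).isRefl (restrict_nd hΦ hD)
  have h2 : x ∈ D ⊔ (bil hΦ).orthogonal D := by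
    rw [h1.sup_eq_top]
    trivial
  obtain ⟨d, hd, f, hf, rfl⟩ := Submodule.mem_sup.1 h2
  exact ⟨d, hd, f, fun y hy => hf y hy, rfl⟩

/-- A maximal nondegenerate space of centres: `E = 0`. -/
theorem ee_eq_zero (hΦ : IsSp Φ) (hH : H ≤ Φ.Iso) (hirr : IrrG H) (hD : Ctr Φ H D)
    (hq : 3 ≤ Nat.card F ∨ 4 ≤ finrank F D) (hD0 : D ≠ ⊥) (hmax : ∀ D' : Submodule F V, D < D' → ¬ Ctr Φ H D')
    {e : V} (he : EE Φ H D e) : e = 0 := by
  have htot : ∀ x y : V, EE Φ H D x → EE Φ H D y → Φ.B x y = 0 := by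
    intro x y hx hy
    by_contra h
    obtain ⟨D', h1, h2⟩ := hD.enlarge hΦ hH hq hD0 hx hy h
    exact hmax D' h1 h2
  -- all centres are orthogonal to `e`
  have key : ∀ c : V, Cen Φ H c → Φ.B c e = 0 := by
    intro c hc
    obtain ⟨d, hd, f, hf, rfl⟩ := exists_dec hΦ hD.nd c
    rw [Φ.add_left, he.1 d hd, zero_add]
    by_cases hd0 : d = 0
    · subst hd0
      rw [zero_add] at hc
      by_contra hB
      have h1 : EE Φ H D (f + e) := by
        refine ⟨fun y hy => by rw [Φ.add_right, hf y hy, he.1 y hy, add_zero], fun y hy hy0 => ?_⟩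
        have h2 := (he.2 y hy hy0).add hH hc (by
          rw [Φ.add_right, B_swap hΦ f y, hf y hy, neg_zero, zero_add]
          exact hB)
        have h3 : y + e + f = y + (f + e) := by abel
        rwa [h3] at h2
      have h2 := htot (f + e) e h1 he
      rw [Φ.add_left, hΦ.alt, add_zero] at h2
      exact hB h2
    · exact htot f e ⟨hf, fun y hy hy0 => hD.spread hΦ hH hf hd hd0 hc hy hy0⟩ he
  -- the span of the centres
  have hspan : Submodule.span F {c : V | Cen Φ H c} = ⊤ := by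
    refine (hirr _ ?_).resolve_left ?_
    · intro h hh v hv
      induction hv using Submodule.span_induction with
      | mem x hx => exact Submodule.subset_span (Cen.map hH hx hh)
      | zero => rw [map_zero]; exact Submodule.zero_mem _
      | add x y _ _ hx hy => rw [map_add]; exact Submodule.add_mem _ hx hy
      | smul a x _ hx => rw [map_smul]; exact Submodule.smul_mem _ _ hx
    · intro h
      obtain ⟨d, hd, hd0⟩ := D.ne_bot_iff.1 hD0
      have h1 : d ∈ Submodule.span F {c : V | Cen Φ H c} := Submodule.subset_span (hD.cen d hd)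
      rw [h, Submodule.mem_bot] at h1
      exact hd0 h1
  refine hΦ.nd e fun y => ?_
  have hy : y ∈ Submodule.span F {c : V | Cen Φ H c} := by rw [hspan]; trivial
  rw [B_swap hΦ, neg_eq_zero]
  induction hy using Submodule.span_induction with
  | mem x hx => exact key x hx
  | zero => exact B_zero_left Φ e
  | add x y _ _ hx hy => rw [Φ.add_left, hx, hy, add_zero]
  | smul a x _ hx => rw [Φ.smul_left, hx, mul_zero]

/-- A maximal nondegenerate space of centres is the whole space or a block. -/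
theorem blk_of_max (hΦ : IsSp Φ) (hH : H ≤ Φ.Iso) (hirr : IrrG H) (hD : Ctr Φ H D)
    (hq : 3 ≤ Nat.card F ∨ 4 ≤ finrank F D) (hD0 : D ≠ ⊥) (hmax : ∀ D' : Submodule F V, D < D' → ¬ Ctr Φ H D')
    (hT : D ≠ ⊤) : Blk Φ H D := by
  refine ⟨hT, hD.nd, fun h hh => ?_⟩
  by_contra hcon
  push Not at hcon
  obtain ⟨hne, horth⟩ := hcon
  have hcen : ∀ x ∈ D.map (h : V →ₗ[F] V), Cen Φ H x := by
    rintro _ ⟨y, hy, rfl⟩
    exact (hD.cen y hy).map hH hh
  have h1 : ∃ c ∈ D.map (h : V →ₗ[F] V), c ∉ D := by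
    by_contra hcon
    push Not at hcon
    apply hne
    refine Submodule.eq_of_le_of_finrank_eq hcon ?_
    exact LinearEquiv.finrank_map_eq h D
  have h2 : ∃ c ∈ D.map (h : V →ₗ[F] V), ∃ d ∈ D, Φ.B c d ≠ 0 := by
    by_contra hcon
    push Not at hcon
    exact horth hcon
  obtain ⟨c, hc, hcD, d, hd, hB⟩ : ∃ c ∈ D.map (h : V →ₗ[F] V), c ∉ D ∧ ∃ d ∈ D, Φ.B c d ≠ 0 := by
    obtain ⟨c₁, hc1, h1⟩ := h1
    obtain ⟨c₂, hc2, d, hd, h2⟩ := h2
    by_cases h3 : Φ.B c₁ d = 0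
    · by_cases h4 : c₂ ∈ D
      · refine ⟨c₁ + c₂, Submodule.add_mem _ hc1 hc2, fun h5 => ?_, d, hd, ?_⟩
        · exact h1 ((D.add_mem_iff_left h4).1 h5)
        · rw [Φ.add_left, h3, zero_add]
          exact h2
      · exact ⟨c₂, hc2, h4, d, hd, h2⟩
    · exact ⟨c₁, hc1, h1, d, hd, h3⟩
  obtain ⟨d₀, hd0, e, he, rfl⟩ := exists_dec hΦ hD.nd c
  have h3 : d₀ ≠ 0 := by
    rintro rfl
    apply hB
    rw [zero_add, B_swap hΦ, he d hd, neg_zero]
  have h4 : EE Φ H D e := ⟨he, fun y hy hy0 => hD.spread hΦ hH he hd0 h3 (hcen _ hc) hy hy0⟩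
  have h5 := ee_eq_zero hΦ hH hirr hD hq hD0 hmax h4
  rw [h5, add_zero] at hcD
  exact hcD hd0

end Main

/-- The symplectic transvections of a summand. -/
theorem cen_of_hasOn (hΦ : IsSp Φ) {W U : Submodule F V} (hd : Φ.Dec W U) (hon : HasOn Φ.Iso H W U) {w : V}
    (hw : w ∈ W) : Cen Φ H w := by
  intro a
  have h0 : (a • bil hΦ w) w = 0 := by
    show a * Φ.B w w = 0
    rw [hΦ.alt, mul_zero]
  have hap : ∀ x, LinearEquiv.transvection h0 x = x + (a * Φ.B w x) • w := fun x => rfl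
  refine ⟨LinearEquiv.transvection h0, hon _ ⟨fun x y => ?_, fun x => ?_⟩ (fun v hv => ?_) (fun u hu => ?_), hap⟩
  · rw [hap, hap, Φ.add_left, Φ.add_right, Φ.add_right, Φ.smul_left, Φ.smul_left, B_smul_right hΦ,
      B_smul_right hΦ, hΦ.alt, B_swap hΦ x w]
    ring
  · rw [hΦ.q, hΦ.q]
  · rw [hap]
    exact W.add_mem hv (W.smul_mem _ hw)
  · rw [hap, hd.orth w hw u hu, mul_zero, zero_smul, add_zero]

/-- **BS31.** -/
theorem gen_sp [FiniteDimensional F V] (hΦ : IsSp Φ) (hH : H ≤ Φ.Iso) (hirr : IrrG H) {W U : Submodule F V}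
    (hd : Φ.Dec W U) (hon : HasOn Φ.Iso H W U) (hW : 2 ≤ finrank F W)
    (hq : 3 ≤ Nat.card F ∨ 4 ≤ finrank F W) :
    Φ.Iso ≤ H ∨ ∃ D : Submodule F V, Blk Φ H D ∧ W ≤ D := by
  have hWn : Φ.NdOn W := by
    intro x hx h
    refine hΦ.nd x fun y => ?_
    have h1 : y ∈ W ⊔ U := by rw [hd.compl.sup_eq_top]; trivial
    obtain ⟨w, hw, u, hu, rfl⟩ := Submodule.mem_sup.1 h1
    rw [Φ.add_right, h w hw, hd.orth x hx u hu, add_zero]
  have hWc : Ctr Φ H W := ⟨hWn, fun w hw => cen_of_hasOn hΦ hd hon hw⟩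
  have hwf : WellFounded (fun a b : Submodule F V => a > b) := wellFounded_gt
  obtain ⟨D, ⟨hWD, hD⟩, hmax⟩ := hwf.has_min {D : Submodule F V | W ≤ D ∧ Ctr Φ H D} ⟨W, le_rfl, hWc⟩
  have hmax' : ∀ D' : Submodule F V, D < D' → ¬ Ctr Φ H D' := fun D' h1 h2 =>
    hmax D' ⟨hWD.trans h1.le, h2⟩ h1
  have hfin := Submodule.finrank_mono hWD
  have hD0 : D ≠ ⊥ := by
    intro h
    rw [h, finrank_bot] at hfin
    omega
  by_cases hT : D = ⊤
  · left
    intro g hg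
    refine Cfsg.Agent.H743.McL.mem_of_isometry (bil hΦ) (bil_alt hΦ) (fun x h => hΦ.nd x h) H (fun a c => ?_) g hg.1
    exact hD.cen a (by rw [hT]; trivial) c
  · right
    exact ⟨D, blk_of_max hΦ hH hirr hD (hq.imp_right fun h => h.trans hfin) hD0 hmax' hT, hWD⟩

end Cfsg.Agent.H24.Bs
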